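import Mathlib

/-! Sections of the structure sheaf of a pushout of ringed spaces form a fibre product. -/

set_option autoImplicit false
set_option backward.isDefEq.respectTransparency false
universe u

open CategoryTheory CategoryTheory.Limits AlgebraicGeometry TopologicalSpace Opposite

namespace RSPushoutLib

/-- Sections over every open set are the compatible pairs of sections. -/
def IsFibreProductSections {X Y Z P : PresheafedSpace.{u, u + 1, u} CommRingCat.{u}} (f : Z ⟶ X) (g : Z ⟶ Y)
    (a : X ⟶ P) (b : Y ⟶ P) (w : f ≫ a = g ≫ b) : Prop :=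
  ∀ U : Opens P,
    (∀ p : P.presheaf.obj (op U), a.c.app (op U) p = 0 → b.c.app (op U) p = 0 → p = 0) ∧
    ∀ (s : X.presheaf.obj (op ((Opens.map a.base).obj U))) (t : Y.presheaf.obj (op ((Opens.map b.base).obj U))),
      f.c.app (op ((Opens.map a.base).obj U)) s =
        Z.presheaf.map (eqToHom (congrArg (fun k : Z ⟶ P => op ((Opens.map k.base).obj U)) w).symm)
          (g.c.app (op ((Opens.map b.base).obj U)) t) →
      ∃ p : P.presheaf.obj (op U), a.c.app (op U) p = s ∧ b.c.app (op U) p = t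

theorem map_eqToHom₂ {T : TopCat.{u}} (P : T.Presheaf CommRingCat.{u}) {U V W : (Opens T)ᵒᵖ} (h₁ : U = V) (h₂ : V = W)
    (h₃ : U = W) (x : P.obj U) : P.map (eqToHom h₂) (P.map (eqToHom h₁) x) = P.map (eqToHom h₃) x := by
  subst h₁ h₂
  simp

theorem pushout_sections {X Y Z : PresheafedSpace.{u, u + 1, u} CommRingCat.{u}} (f : Z ⟶ X) (g : Z ⟶ Y) :
    IsFibreProductSections f g (colimit.ι (span f g) WalkingSpan.left) (colimit.ι (span f g) WalkingSpan.right)
      (pushout.condition (f := f) (g := g)) := by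
  intro U
  let F := span f g
  let e := PresheafedSpace.colimitPresheafObjIsoComponentwiseLimit F U
  let D := PresheafedSpace.componentwiseDiagram F U
  have hπ : ∀ (j : WalkingSpan) p, limit.π D (op j) (e.hom p) = (colimit.ι F j).c.app (op U) p := fun j p => by
    rw [← PresheafedSpace.colimitPresheafObjIsoComponentwiseLimit_hom_π F U j]; rfl
  refine ⟨fun p hl hr => ?_, fun s t hst => ?_⟩
  · have h0 : e.hom p = 0 := by
      refine Concrete.limit_ext D _ _ fun j => ?_
      rw [map_zero]
      obtain ⟨j⟩ := j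
      rcases j with _ | _ | _
      · rw [← limit.w D (Quiver.Hom.op WalkingSpan.Hom.fst), CommRingCat.comp_apply,
          (hπ WalkingSpan.left p).trans hl, map_zero]
      · exact (hπ WalkingSpan.left p).trans hl
      · exact (hπ WalkingSpan.right p).trans hr
    exact (ConcreteCategory.bijective_of_isIso e.hom).1 (h0.trans (map_zero _).symm)
  · let z := D.map (Quiver.Hom.op WalkingSpan.Hom.fst) s
    have hz : z = D.map (Quiver.Hom.op WalkingSpan.Hom.snd) t := by
      simp only [z, D, PresheafedSpace.componentwiseDiagram_map, CommRingCat.comp_apply, F,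
        span_map_fst, span_map_snd]
      erw [hst]
      exact map_eqToHom₂ Z.presheaf _ _ _ _
    let x : ∀ j, (D ⋙ forget CommRingCat.{u}).obj j := fun j =>
      match j with
      | ⟨none⟩ => z
      | ⟨some WalkingPair.left⟩ => s
      | ⟨some WalkingPair.right⟩ => t
    have hx : x ∈ (D ⋙ forget CommRingCat.{u}).sections := by
      rintro ⟨i⟩ ⟨j⟩ φ
      obtain ⟨φ⟩ := φ
      dsimp only [unop_op] at φ
      change WidePushoutShape.Hom j i at φ
      cases φ with
      | id =>
        show D.map (𝟙 _) _ = _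
        rw [D.map_id]
        rfl
      | init k =>
        cases k with
        | left => rfl
        | right => exact hz.symm
    let l : (limit D : CommRingCat.{u}) :=
      (preservesLimitIso (forget CommRingCat.{u}) D).inv ((Types.limitEquivSections _).symm ⟨x, hx⟩)
    have hl : ∀ j, limit.π D j l = x j := fun j => by
      have h1 := ConcreteCategory.congr_hom (preservesLimitIso_inv_π (forget CommRingCat.{u}) D j)
        ((Types.limitEquivSections _).symm ⟨x, hx⟩)
      exact h1.trans (Types.limitEquivSections_symm_apply _ _ _)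
    refine ⟨e.inv l, ?_, ?_⟩
    · refine (hπ WalkingSpan.left _).symm.trans ?_
      rw [← CommRingCat.comp_apply e.inv, e.inv_hom_id]
      exact hl (op WalkingSpan.left)
    · refine (hπ WalkingSpan.right _).symm.trans ?_
      rw [← CommRingCat.comp_apply e.inv, e.inv_hom_id]
      exact hl (op WalkingSpan.right)

theorem isFibreProductSections_of_iso {X Y Z P P' : PresheafedSpace.{u, u + 1, u} CommRingCat.{u}} (f : Z ⟶ X) (g : Z ⟶ Y)
    (a : X ⟶ P) (b : Y ⟶ P) (w : f ≫ a = g ≫ b) (h : IsFibreProductSections f g a b w) (e : P ⟶ P') [IsIso e]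
    (a' : X ⟶ P') (b' : Y ⟶ P') (ha : a ≫ e = a') (hb : b ≫ e = b') (w' : f ≫ a' = g ≫ b') :
    IsFibreProductSections f g a' b' w' := by
  subst ha hb
  intro U
  obtain ⟨h1, h2⟩ := h ((Opens.map e.base).obj U)
  haveI : IsIso e.c := PresheafedSpace.c_isIso_of_iso e
  haveI : IsIso (e.c.app (op U)) := inferInstance
  have hbij := ConcreteCategory.bijective_of_isIso (e.c.app (op U))
  refine ⟨fun p hl hr => hbij.1 ((h1 _ hl hr).trans (map_zero _).symm), fun s t hst => ?_⟩
  obtain ⟨p, hp1, hp2⟩ := h2 s t hst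
  obtain ⟨q, rfl⟩ := hbij.2 p
  exact ⟨q, hp1, hp2⟩

theorem isPushout_sections {X Y Z P : PresheafedSpace.{u, u + 1, u} CommRingCat.{u}} {f : Z ⟶ X} {g : Z ⟶ Y}
    {a : X ⟶ P} {b : Y ⟶ P} (h : IsPushout f g a b) : IsFibreProductSections f g a b h.w :=
  isFibreProductSections_of_iso f g _ _ _ (pushout_sections f g) h.isoPushout.inv a b
    h.inl_isoPushout_inv h.inr_isoPushout_inv h.w

/-- The same for schemes. -/
theorem scheme_sections {X Z Z' X' : Scheme.{u}} {ι : Z ⟶ X} {q : Z ⟶ Z'} {π : X ⟶ X'} {ι' : Z' ⟶ X'}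
    (hw : ι ≫ π = q ≫ ι')
    (hpo : IsPushout ((Scheme.forgetToLocallyRingedSpace ⋙ LocallyRingedSpace.forgetToSheafedSpace).map ι)
      ((Scheme.forgetToLocallyRingedSpace ⋙ LocallyRingedSpace.forgetToSheafedSpace).map q)
      ((Scheme.forgetToLocallyRingedSpace ⋙ LocallyRingedSpace.forgetToSheafedSpace).map π)
      ((Scheme.forgetToLocallyRingedSpace ⋙ LocallyRingedSpace.forgetToSheafedSpace).map ι')) (U : X'.Opens) :
    (∀ p : Γ(X', U), π.app U p = 0 → ι'.app U p = 0 → p = 0) ∧
    ∀ (s : Γ(X, π ⁻¹ᵁ U)) (t : Γ(Z', ι' ⁻¹ᵁ U)),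
      ι.app (π ⁻¹ᵁ U) s = q.appLE (ι' ⁻¹ᵁ U) (ι ⁻¹ᵁ π ⁻¹ᵁ U)
        (by rw [← Scheme.Hom.comp_preimage, ← Scheme.Hom.comp_preimage, hw]) t →
      ∃ p : Γ(X', U), π.app U p = s ∧ ι'.app U p = t :=
  isPushout_sections (hpo.map SheafedSpace.forgetToPresheafedSpace) U

end RSPushoutLib
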